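import Groth.Agent.H29Ci.Zero
import Groth.Prelude.Def_Curves
import Mathlib.FieldTheory.RatFunc.AsPolynomial
import Mathlib.FieldTheory.IntermediateField.Adjoin.Basic
import Mathlib.LinearAlgebra.Matrix.Determinant.Basic
import Mathlib.RingTheory.Norm.Basic
import Mathlib.RingTheory.Localization.Integer
import Mathlib.Algebra.Polynomial.BigOperators
import Mathlib.Algebra.MvPolynomial.Degrees

/-!
The properties `C_i` pass to algebraic extensions and go up by one in `K(X)`.
-/

set_option autoImplicit false
universe u v w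

namespace Groth.Agent.H29Ci

open MvPolynomial

/-- Apply a linear functional to all coefficients. -/
noncomputable def coeffMap {R : Type u} {S : Type v} [CommRing R] [CommRing S] [Algebra R S]
    {σ : Type w} (φ : S →ₗ[R] R) (F : MvPolynomial σ S) : MvPolynomial σ R :=
  ∑ m ∈ F.support, monomial m (φ (F.coeff m))

theorem coeffMap_isHomogeneous {R : Type u} {S : Type v} [CommRing R] [CommRing S] [Algebra R S]
    {σ : Type w} (φ : S →ₗ[R] R) {F : MvPolynomial σ S} {d : ℕ} (hF : F.IsHomogeneous d) :
    (coeffMap φ F).IsHomogeneous d :=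
  IsHomogeneous.sum _ _ _ fun m hm => isHomogeneous_monomial _
    (by rw [Finsupp.degree_eq_weight_one]; exact hF (mem_support_iff.mp hm))

theorem eval_coeffMap {R : Type u} {S : Type v} [CommRing R] [CommRing S] [Algebra R S]
    {σ : Type w} (φ : S →ₗ[R] R) (F : MvPolynomial σ S) (a : σ → R) :
    eval a (coeffMap φ F) = φ (eval (fun v => algebraMap R S (a v)) F) := by
  rw [coeffMap, map_sum, eval_eq, map_sum]
  refine Finset.sum_congr rfl fun m _ => ?_
  rw [eval_monomial, Finsupp.prod]
  simp only [← map_pow, ← map_prod]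
  rw [mul_comm (F.coeff m), ← Algebra.smul_def, map_smul, smul_eq_mul, mul_comm]

/-- Substituting a generic `R`-combination of given elements. -/
noncomputable def subst {R : Type u} {S : Type v} [CommRing R] [CommRing S] [Algebra R S] {n s : ℕ}
    (b : Fin s → S) (f : MvPolynomial (Fin n) S) : MvPolynomial (Fin n × Fin s) S :=
  aeval (fun v => ∑ j, C (b j) * X (v, j)) f

theorem subst_isHomogeneous {R : Type u} {S : Type v} [CommRing R] [CommRing S] [Algebra R S]
    {n s d : ℕ} (b : Fin s → S) {f : MvPolynomial (Fin n) S} (hf : f.IsHomogeneous d) :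
    (subst (R := R) b f).IsHomogeneous d := by
  have := hf.aeval (fun v => ∑ j, C (b j) * X (v, j)) fun v =>
    IsHomogeneous.sum _ _ 1 fun j _ => by
      simpa using (isHomogeneous_C _ (b j)).mul (isHomogeneous_X S (v, j))
  rwa [one_mul] at this

theorem eval_subst {R : Type u} {S : Type v} [CommRing R] [CommRing S] [Algebra R S]
    {n s : ℕ} (b : Fin s → S) (f : MvPolynomial (Fin n) S) (a : Fin n × Fin s → R) :
    eval (fun v => algebraMap R S (a v)) (subst (R := R) b f) =
      eval (fun v => ∑ j, a (v, j) • b j) f := by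
  rw [subst, aeval_def, eval₂_comp_left,
    show (eval fun v => algebraMap R S (a v)).comp (algebraMap S (MvPolynomial (Fin n × Fin s) S)) =
      RingHom.id S from RingHom.ext fun c => eval_C _, eval₂_id]
  congr 2
  funext v
  simp only [Function.comp_apply, map_sum, map_mul, eval_C, eval_X, Algebra.smul_def]
  exact Finset.sum_congr rfl fun j _ => mul_comm _ _

/-- `IsCi` for systems indexed by arbitrary finite types. -/
theorem IsCi.exists_zero {K : Type u} [Field K] {i : ℕ} (hK : Curves.IsCi K i)
    {ι : Type v} [Fintype ι] {σ : Type w} [Fintype σ] (f : ι → MvPolynomial σ K) (d : ι → ℕ)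
    (hf : ∀ j, (f j).IsHomogeneous (d j)) (hd : ∀ j, 0 < d j)
    (hsum : ∑ j, d j ^ i < Fintype.card σ) :
    ∃ a : σ → K, a ≠ 0 ∧ ∀ j, eval a (f j) = 0 := by
  let e := Fintype.equivFin σ
  let e' := (Fintype.equivFin ι).symm
  obtain ⟨a, ha, h⟩ := hK (Fintype.card ι) (Fintype.card σ) (fun r => rename e (f (e' r)))
    (fun r => d (e' r)) (fun r => (hf _).rename_isHomogeneous) (fun r => hd _)
    (by rwa [e'.sum_comp (fun j => d j ^ i)])
  refine ⟨a ∘ e, fun h0 => ha ?_, fun j => ?_⟩
  · funext x
    simpa using congrFun h0 (e.symm x)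
  · have := h (e'.symm j)
    rw [eval_rename] at this
    simpa using this

theorem isCi_succ {K : Type u} [Field K] {i : ℕ} (hK : Curves.IsCi K i) : Curves.IsCi K (i + 1) :=
  fun r n f d hf hd hs => hK r n f d hf hd
    (lt_of_le_of_lt (Finset.sum_le_sum fun ρ _ => Nat.pow_le_pow_right (hd ρ) (Nat.le_succ i)) hs)

theorem isCi_mono {K : Type u} [Field K] {i j : ℕ} (h : i ≤ j) (hK : Curves.IsCi K i) :
    Curves.IsCi K j := by
  induction h with
  | refl => exact hK
  | step _ ih => exact isCi_succ ih

theorem isCi_of_finite {K : Type u} [Field K] (L : Type v) [Field L] [Algebra K L]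
    [FiniteDimensional K L] {i : ℕ} (hK : Curves.IsCi K i) : Curves.IsCi L i := by
  intro r n f d hf hd hs
  set s := Module.finrank K L
  let b := Module.finBasis K L
  have hpos : 0 < s := Module.finrank_pos
  obtain ⟨a, ha, h⟩ := IsCi.exists_zero hK
    (fun p : Fin r × Fin s => coeffMap (b.coord p.2) (subst (R := K) b (f p.1)))
    (fun p => d p.1) (fun p => coeffMap_isHomogeneous _ (subst_isHomogeneous _ (hf _)))
    (fun p => hd _) (by
      rw [Fintype.sum_prod_type, Fintype.card_prod, Fintype.card_fin, Fintype.card_fin]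
      simp only [Finset.sum_const, Finset.card_univ, Fintype.card_fin, smul_eq_mul, ← Finset.mul_sum]
      rw [mul_comm n]
      exact Nat.mul_lt_mul_of_pos_left hs hpos)
  refine ⟨fun v => ∑ j, a (v, j) • b j, fun h0 => ha ?_, fun ρ => ?_⟩
  · funext p
    exact Fintype.linearIndependent_iff.mp b.linearIndependent (fun j => a (p.1, j)) (congrFun h0 p.1) p.2
  · apply b.ext_elem
    intro j
    have := h (ρ, j)
    rw [eval_coeffMap, eval_subst] at this
    simpa using this

theorem isCi_of_algebraic {K : Type u} [Field K] (L : Type v) [Field L] [Algebra K L]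
    [Algebra.IsAlgebraic K L] {i : ℕ} (hK : Curves.IsCi K i) : Curves.IsCi L i := by
  classical
  intro r n f d hf hd hs
  let S : Finset L := Finset.univ.biUnion fun ρ => (f ρ).support.image fun m => (f ρ).coeff m
  let E := IntermediateField.adjoin K (S : Set L)
  haveI : FiniteDimensional K E :=
    IntermediateField.finiteDimensional_adjoin fun x _ => Algebra.IsIntegral.isIntegral x
  have hE := isCi_of_finite E hK
  have : ∀ ρ, ∃ g : MvPolynomial (Fin n) E, MvPolynomial.map (algebraMap E L) g = f ρ := by
    intro ρ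
    have : f ρ ∈ Set.range (MvPolynomial.map (σ := Fin n) (algebraMap E L)) := by
      rw [mem_range_map_iff_coeffs_subset]
      intro c hc
      obtain ⟨m, hm, rfl⟩ := mem_coeffs_iff.mp hc
      exact ⟨⟨_, IntermediateField.subset_adjoin K _
        (Finset.mem_biUnion.mpr ⟨ρ, Finset.mem_univ _, Finset.mem_image.mpr ⟨m, hm, rfl⟩⟩)⟩, rfl⟩
    exact this
  choose g hg using this
  obtain ⟨a, ha, h⟩ := hE r n g d
    (fun ρ => IsHomogeneous.of_map (algebraMap E L).injective (by rw [hg ρ]; exact hf ρ)) hd hs
  refine ⟨fun v => algebraMap E L (a v), fun h0 => ha ?_, fun ρ => ?_⟩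
  · funext v
    exact (algebraMap E L).injective ((congrFun h0 v).trans (map_zero _).symm)
  · rw [← hg ρ, eval_map, ← map_zero (algebraMap E L), ← h ρ, ← eval₂_id, eval₂_comp_left]
    rfl

theorem natDegree_eval_le {K : Type u} [Field K] {n d c s : ℕ}
    (f : MvPolynomial (Fin n) (Polynomial K)) (hf : f.IsHomogeneous d)
    (hc : ∀ m, (f.coeff m).natDegree ≤ c) (y : Fin n → Polynomial K)
    (hy : ∀ v, (y v).natDegree ≤ s) : (eval y f).natDegree ≤ c + d * s := by
  rw [eval_eq]
  refine Polynomial.natDegree_sum_le_of_forall_le _ _ fun m hm => ?_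
  refine Polynomial.natDegree_mul_le.trans (add_le_add (hc m) ?_)
  refine (Polynomial.natDegree_prod_le _ _).trans ?_
  have : (∑ v ∈ m.support, m v) = d := by
    rw [← hf (mem_support_iff.mp hm)]
    simp [Finsupp.weight, Finsupp.linearCombination_apply, Finsupp.sum]
  rw [← this, Finset.sum_mul]
  exact Finset.sum_le_sum fun v _ => Polynomial.natDegree_pow_le.trans (Nat.mul_le_mul_left _ (hy v))

theorem exists_zero_polynomial {K : Type u} [Field K] {i : ℕ} (hK : Curves.IsCi K i) {r n : ℕ}
    (f : Fin r → MvPolynomial (Fin n) (Polynomial K)) (d : Fin r → ℕ)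
    (hf : ∀ ρ, (f ρ).IsHomogeneous (d ρ)) (hd : ∀ ρ, 0 < d ρ) (hs : ∑ ρ, d ρ ^ (i + 1) < n) :
    ∃ a : Fin n → Polynomial K, a ≠ 0 ∧ ∀ ρ, eval a (f ρ) = 0 := by
  classical
  let c : ℕ := Finset.univ.sup fun ρ => (f ρ).support.sup fun m => ((f ρ).coeff m).natDegree
  have hc : ∀ ρ m, ((f ρ).coeff m).natDegree ≤ c := by
    intro ρ m
    by_cases hm : m ∈ (f ρ).support
    · exact (Finset.le_sup (f := fun m => ((f ρ).coeff m).natDegree) hm).trans
        (Finset.le_sup (f := fun ρ => (f ρ).support.sup fun m => ((f ρ).coeff m).natDegree) (Finset.mem_univ ρ))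
    · simp [notMem_support_iff.mp hm]
  let s : ℕ := (∑ ρ, (c + 1) * d ρ ^ i) + 1
  obtain ⟨a, ha, h⟩ := IsCi.exists_zero hK
    (fun p : Σ ρ : Fin r, Fin (c + d ρ * s + 1) =>
      coeffMap (Polynomial.lcoeff K p.2) (subst (R := K) (fun j : Fin s => (Polynomial.X : Polynomial K) ^ (j : ℕ)) (f p.1)))
    (fun p => d p.1) (fun p => coeffMap_isHomogeneous _ (subst_isHomogeneous _ (hf _)))
    (fun p => hd _) (by
      rw [Fintype.sum_sigma, Fintype.card_prod, Fintype.card_fin, Fintype.card_fin]
      simp only [Finset.sum_const, Finset.card_univ, Fintype.card_fin, smul_eq_mul]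
      have hsplit : ∀ ρ, (c + d ρ * s + 1) * d ρ ^ i = (c + 1) * d ρ ^ i + s * d ρ ^ (i + 1) :=
        fun ρ => by ring
      rw [Finset.sum_congr rfl fun ρ _ => hsplit ρ, Finset.sum_add_distrib,
        ← Finset.mul_sum Finset.univ (fun ρ => d ρ ^ (i + 1)) s]
      have h1 : s * (∑ ρ, d ρ ^ (i + 1)) + s ≤ n * s := by
        rw [← Nat.mul_succ, mul_comm n]; exact Nat.mul_le_mul_left _ hs
      omega)
  refine ⟨fun v => ∑ j, a (v, j) • (Polynomial.X : Polynomial K) ^ (j : ℕ), fun h0 => ha ?_,
    fun ρ => ?_⟩
  · funext p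
    have := congrArg (fun q : Polynomial K => q.coeff p.2) (congrFun h0 p.1)
    simpa [Polynomial.finsetSum_coeff, Polynomial.coeff_smul, Polynomial.coeff_X_pow, Fin.val_inj]
      using this
  · ext e
    rw [Polynomial.coeff_zero]
    by_cases he : e < c + d ρ * s + 1
    · have := h ⟨ρ, ⟨e, he⟩⟩
      rw [eval_coeffMap, eval_subst] at this
      exact this
    · refine Polynomial.coeff_eq_zero_of_natDegree_lt (lt_of_le_of_lt
        (natDegree_eval_le (f ρ) (hf ρ) (hc ρ) _ fun v => ?_) (show c + d ρ * s < e by omega))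
      exact Polynomial.natDegree_sum_le_of_forall_le _ _ fun j _ =>
        (Polynomial.natDegree_smul_le _ _).trans ((Polynomial.natDegree_X_pow_le _).trans j.2.le)

theorem isCi_ratFunc {K : Type u} [Field K] {i : ℕ} (hK : Curves.IsCi K i) :
    Curves.IsCi (RatFunc K) (i + 1) := by
  classical
  intro r n f d hf hd hs
  have : ∀ ρ, ∃ (q : Polynomial K) (g : MvPolynomial (Fin n) (Polynomial K)), q ≠ 0 ∧
      g.IsHomogeneous (d ρ) ∧
      MvPolynomial.map (algebraMap (Polynomial K) (RatFunc K)) g =
        C (algebraMap (Polynomial K) (RatFunc K) q) * f ρ := by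
    intro ρ
    obtain ⟨q, hq⟩ := IsLocalization.exist_integer_multiples (nonZeroDivisors (Polynomial K))
      (f ρ).support fun m => (f ρ).coeff m
    have h' : (C (algebraMap (Polynomial K) (RatFunc K) q) * f ρ) ∈
        Set.range (MvPolynomial.map (σ := Fin n) (algebraMap (Polynomial K) (RatFunc K))) := by
      rw [mem_range_map_iff_coeffs_subset]
      intro c hc
      obtain ⟨m, hm, rfl⟩ := mem_coeffs_iff.mp hc
      rw [coeff_C_mul]
      have hm' : m ∈ (f ρ).support := by
        rw [mem_support_iff] at hm ⊢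
        intro h; exact hm (by rw [coeff_C_mul, h, mul_zero])
      obtain ⟨p, hp⟩ := hq m hm'
      exact ⟨p, hp.trans (Algebra.smul_def _ _)⟩
    obtain ⟨g, hg⟩ := h'
    refine ⟨q, g, nonZeroDivisors.ne_zero q.2, ?_, hg⟩
    refine IsHomogeneous.of_map (RatFunc.algebraMap_injective K) ?_
    rw [hg]
    exact (hf ρ).C_mul _
  choose q g hq hg hgf using this
  obtain ⟨a, ha, h⟩ := exists_zero_polynomial hK g d hg hd hs
  refine ⟨fun v => algebraMap (Polynomial K) (RatFunc K) (a v), fun h0 => ha ?_, fun ρ => ?_⟩
  · funext v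
    exact RatFunc.algebraMap_injective K ((congrFun h0 v).trans (map_zero _).symm)
  · have h' := congrArg (algebraMap (Polynomial K) (RatFunc K)) (h ρ)
    rw [← eval₂_id, eval₂_comp_left, map_zero] at h'
    have h'' := congrArg (eval fun v => algebraMap (Polynomial K) (RatFunc K) (a v)) (hgf ρ)
    rw [eval_map, map_mul, eval_C] at h''
    rcases mul_eq_zero.mp (h''.symm.trans h') with h1 | h1
    · exact absurd ((map_eq_zero_iff _ (RatFunc.algebraMap_injective K)).mp h1) (hq ρ)
    · exact h1

theorem isCi_ringEquiv {K : Type u} [Field K] {L : Type v} [Field L] (e : K ≃+* L) {i : ℕ}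
    (hK : Curves.IsCi K i) : Curves.IsCi L i := by
  letI := e.toRingHom.toAlgebra
  haveI : FiniteDimensional K L :=
    Module.Finite.of_surjective (Algebra.linearMap K L) e.surjective
  exact isCi_of_finite L hK

theorem isCi_adjoin_finset {k : Type u} [Field k] {K : Type v} [Field K] [Algebra k K] {m : ℕ}
    (hk : Curves.IsCi k m) (S : Finset K) :
    Curves.IsCi (IntermediateField.adjoin k (S : Set K)) (m + S.card) := by
  classical
  induction S using Finset.induction_on with
  | empty =>
    rw [Finset.coe_empty, IntermediateField.adjoin_empty, Finset.card_empty, add_zero]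
    exact isCi_ringEquiv (IntermediateField.botEquiv k K).symm.toRingEquiv hk
  | insert x S hx ih =>
    set E := IntermediateField.adjoin k (S : Set K)
    have hEx : Curves.IsCi (IntermediateField.adjoin E ({x} : Set K)) (m + S.card + 1) := by
      by_cases halg : IsAlgebraic E x
      · haveI := IntermediateField.adjoin.finiteDimensional halg.isIntegral
        exact isCi_succ (isCi_of_finite _ ih)
      · exact isCi_ringEquiv (RatFunc.algEquivOfTranscendental x halg).toRingEquiv (isCi_ratFunc ih)
    rw [Finset.card_insert_of_notMem hx, ← add_assoc]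
    have e' : IntermediateField.restrictScalars k (IntermediateField.adjoin E ({x} : Set K)) =
        IntermediateField.adjoin k ((insert x S : Finset K) : Set K) := by
      rw [IntermediateField.adjoin_adjoin_left, Finset.coe_insert, Set.union_singleton]
    exact isCi_ringEquiv (RingEquiv.subfieldCongr (congrArg IntermediateField.toSubfield e')) hEx

theorem isCi_of_transcendenceBasis {k : Type u} [Field k] {K : Type v} [Field K] [Algebra k K]
    {m : ℕ} (hk : Curves.IsCi k m) {ι : Type w} [Fintype ι] (x : ι → K)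
    (hx : IsTranscendenceBasis k x) : Curves.IsCi K (m + Fintype.card ι) := by
  classical
  have h := isCi_adjoin_finset hk (Finset.univ.image x)
  rw [Finset.coe_image, Finset.coe_univ, Set.image_univ,
    Finset.card_image_of_injective _ hx.1.injective, Finset.card_univ] at h
  haveI := hx.isAlgebraic_field
  exact isCi_of_algebraic K h

theorem isCi_of_isAlgClosed (k : Type u) [Field k] [IsAlgClosed k] : Curves.IsCi k 0 := by
  intro r n f d hf hd hsum
  exact exists_ne_zero_common_zero f
    (fun ρ => eval_zero_of_isHomogeneous (hf ρ) (hd ρ)) (by simpa using hsum)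

theorem isCr_of_isCi {K : Type u} [Field K] {i : ℕ} (hK : Curves.IsCi K i) : Curves.IsCr K i := by
  intro n d f hf hd hn
  obtain ⟨a, ha, h⟩ := hK 1 n (fun _ => f) (fun _ => d) (fun _ => hf) (fun _ => hd) (by simpa using hn)
  exact ⟨a, ha, h 0⟩

theorem isCr_one_of_finite {K : Type u} [Field K] (L : Type v) [Field L] [Algebra K L]
    [FiniteDimensional K L] (hK : Curves.IsCr K 1) : Curves.IsCr L 1 := by
  classical
  intro n d f hf hd hn
  set s := Module.finrank K L
  let b := Module.finBasis K L
  have hpos : 0 < s := Module.finrank_pos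
  let M : Matrix (Fin s) (Fin s) (MvPolynomial (Fin n × Fin s) K) := Matrix.of fun p q =>
    coeffMap ((Matrix.entryLinearMap K K p q).comp (Algebra.leftMulMatrix b).toLinearMap)
      (subst (R := K) b f)
  let e := Fintype.equivFin (Fin n × Fin s)
  have hM : M.det.IsHomogeneous (d * s) := by
    rw [Matrix.det_apply]
    refine IsHomogeneous.sum _ _ _ fun σ _ => ?_
    have h1 : (∏ i : Fin s, M (σ i) i).IsHomogeneous (d * s) := by
      have h := IsHomogeneous.prod (Finset.univ : Finset (Fin s)) (fun i => M (σ i) i) (fun _ => d)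
        (fun i _ => coeffMap_isHomogeneous _ (subst_isHomogeneous _ hf))
      simpa [Finset.sum_const, mul_comm d] using h
    rcases Int.units_eq_one_or (Equiv.Perm.sign σ) with hσ | hσ <;> rw [hσ]
    · simpa using h1
    · simpa using h1.neg
  obtain ⟨a, ha, h⟩ := hK _ (d * s) (rename e M.det) hM.rename_isHomogeneous (Nat.mul_pos hd hpos) (by
    rw [pow_one, Fintype.card_prod, Fintype.card_fin, Fintype.card_fin]
    exact Nat.mul_lt_mul_of_pos_right (by simpa using hn) hpos)
  rw [eval_rename] at h
  refine ⟨fun v => ∑ j, a (e (v, j)) • b j, fun h0 => ha ?_, ?_⟩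
  · funext q
    have := Fintype.linearIndependent_iff.mp b.linearIndependent (fun j => a (e ((e.symm q).1, j)))
      (congrFun h0 (e.symm q).1) (e.symm q).2
    simpa using this
  · have hmat : (eval (a ∘ e)).mapMatrix M =
        Algebra.leftMulMatrix b (eval (fun v => ∑ j, a (e (v, j)) • b j) f) := by
      ext p q
      simp [M, eval_coeffMap, eval_subst]
    rw [RingHom.map_det, hmat, ← Algebra.norm_eq_matrix_det] at h
    exact (Algebra.norm_eq_zero_iff (R := K)).mp h

end Groth.Agent.H29Ci
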