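import Mathlib.RingTheory.Nullstellensatz
import Mathlib.RingTheory.Ideal.KrullsHeightTheorem
import Mathlib.RingTheory.MvPolynomial.Homogeneous
import Mathlib.RingTheory.Polynomial.Basic

/-!
Common zeros of forms over algebraically closed fields.
-/

set_option autoImplicit false
universe u

namespace Groth.Agent.H29Ci

open MvPolynomial

/-- The ideal of the coordinate subspace `x_i = 0` for `i < j`. -/
noncomputable def coordHom (k : Type u) [CommRing k] (n j : ℕ) :
    MvPolynomial (Fin n) k →ₐ[k] MvPolynomial (Fin n) k :=
  aeval fun i => if (i : ℕ) < j then 0 else X i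

theorem le_height_ker_coordHom (k : Type u) [Field k] (n : ℕ) :
    ∀ j, j ≤ n → (j : ℕ∞) ≤ (RingHom.ker (coordHom k n j)).height := by
  intro j
  induction j with
  | zero => intro _; simp
  | succ j ih =>
    intro hj
    have hlt : RingHom.ker (coordHom k n j) < RingHom.ker (coordHom k n (j + 1)) := by
      refine lt_of_le_of_ne ?_ ?_
      · have hcomp : coordHom k n (j + 1) = (coordHom k n (j + 1)).comp (coordHom k n j) := by
          ext i
          simp only [coordHom, AlgHom.comp_apply, aeval_X]
          by_cases h : (i : ℕ) < j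
          · simp [h, show (i : ℕ) < j + 1 by omega]
          · simp [h]
        intro p hp
        rw [RingHom.mem_ker] at hp ⊢
        rw [hcomp, AlgHom.comp_apply, hp, map_zero]
      · intro he
        have h1 : (X (⟨j, by omega⟩ : Fin n) : MvPolynomial (Fin n) k) ∈
            RingHom.ker (coordHom k n (j + 1)) := by simp [coordHom]
        rw [← he] at h1
        simp [coordHom, MvPolynomial.X_ne_zero] at h1
    haveI : (RingHom.ker (coordHom k n j)).IsPrime := RingHom.ker_isPrime _
    haveI : (RingHom.ker (coordHom k n (j + 1))).IsPrime := RingHom.ker_isPrime _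
    have := Ideal.height_strict_mono_of_isPrime_of_isPrime hlt
    calc ((j + 1 : ℕ) : ℕ∞) = (j : ℕ∞) + 1 := by push_cast; rfl
      _ ≤ (RingHom.ker (coordHom k n j)).height + 1 := by gcongr; exact ih (by omega)
      _ ≤ _ := ENat.add_one_le_iff
          ((Ideal.height_ne_top (I := RingHom.ker (coordHom k n j)) (Ideal.IsPrime.ne_top inferInstance))) |>.mpr this

/-- Fewer than `n` polynomials in `n` variables that vanish at the origin have another common
zero, over an algebraically closed field. -/
theorem exists_ne_zero_common_zero {k : Type u} [Field k] [IsAlgClosed k] {r n : ℕ}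
    (f : Fin r → MvPolynomial (Fin n) k) (h0 : ∀ ρ, eval 0 (f ρ) = 0) (hrn : r < n) :
    ∃ a : Fin n → k, a ≠ 0 ∧ ∀ ρ, eval a (f ρ) = 0 := by
  classical
  by_contra hcon
  push Not at hcon
  set m : Ideal (MvPolynomial (Fin n) k) := RingHom.ker (coordHom k n n) with hm
  have hm0 : vanishingIdeal k ({0} : Set (Fin n → k)) = m := by
    ext p
    have : coordHom k n n p = C (eval 0 p) := by
      have h : coordHom k n n = (Algebra.ofId k (MvPolynomial (Fin n) k)).comp (aeval 0) := by
        ext i
        simp [coordHom]
      rw [h]; rfl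
    rw [mem_vanishingIdeal_singleton_iff, hm, RingHom.mem_ker, this, C_eq_zero]
    rfl
  have hz : zeroLocus k (Ideal.span (Set.range f)) = {0} := by
    rw [zeroLocus_span]
    ext a
    simp only [Set.mem_setOf_eq, Set.forall_mem_range, Set.mem_singleton_iff]
    constructor
    · intro h
      by_contra ha
      obtain ⟨ρ, hρ⟩ := hcon a ha
      exact hρ (by simpa [aeval_eq_eval] using h ρ)
    · rintro rfl ρ
      simpa [aeval_eq_eval] using h0 ρ
  have hrad : (Ideal.span (Set.range f)).radical = m := by
    rw [← hm0, ← hz, vanishingIdeal_zeroLocus_eq_radical]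
  haveI : m.IsPrime := RingHom.ker_isPrime _
  have hmin : m ∈ (Ideal.span (Set.range f)).minimalPrimes := by
    refine ⟨⟨inferInstance, hrad ▸ Ideal.le_radical⟩, fun q hq _ => ?_⟩
    rw [← hrad]
    exact hq.1.radical_le_iff.mpr hq.2
  have h1 := Ideal.height_le_card_of_mem_minimalPrimes_span (Set.finite_range f) hmin
  have h2 : (n : ℕ∞) ≤ ((Set.range f).ncard : ℕ∞) :=
    (le_height_ker_coordHom k n n le_rfl).trans h1
  have h3 : (Set.range f).ncard ≤ r := by
    rw [← Set.image_univ]
    exact (Set.ncard_image_le Set.finite_univ).trans (by simp [Set.ncard_univ])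
  have : n ≤ (Set.range f).ncard := by exact_mod_cast h2
  omega

/-- A form of positive degree vanishes at the origin. -/
theorem eval_zero_of_isHomogeneous {k : Type u} [CommRing k] {n d : ℕ}
    {f : MvPolynomial (Fin n) k} (hf : f.IsHomogeneous d) (hd : 0 < d) : eval 0 f = 0 := by
  rw [eval_zero]
  exact hf.coeff_eq_zero (by simp; omega)

end Groth.Agent.H29Ci
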